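import Cfsg.Agent.H844.S8.BFrob
import Cfsg.Agent.H25.S8.BV

/-!
# S4908, row FROB of the Baby Monster: the final form (helper844, with helper25's lemma)
-/

set_option autoImplicit false

universe v

namespace Cfsg.Agent.H844.S8.BFrobMain

open Subgroup Cfsg Cfsg.Agent Cfsg.Agent.H704.S8
open Cfsg.Agent.H844.S8.BFrob (G isoG finG row_of)

theorem no_three_eleven (Q R : Subgroup G) (hR : Nat.card R = 23) (hQ : Nat.card Q = 3 ^ 11)
    (hRQ : R ≤ normalizer (Q : Set G)) : False := by
  have : Fact (Nat.Prime 23) := ⟨by norm_num⟩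
  obtain ⟨y, hy⟩ := exists_prime_orderOf_dvd_card' (G := R) 23 (by rw [hR])
  exact H25.S8.card_ne_three_eleven isoG (y := (y : G)) (by rw [Subgroup.orderOf_coe, hy]) (hRQ y.2) hQ

/-- **S4908, FROB, Baby Monster** -/
theorem row {X : Type v} [Group X] [Finite X] (hX : IsB X) (D : Set ℕ) : FrobRow 1 D X :=
  row_of no_three_eleven hX D

end Cfsg.Agent.H844.S8.BFrobMain
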