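import Cfsg.Agent.H844.S8.KE
import Cfsg.Agent.H844.TC.BPrimeLe
import Cfsg.Agent.H844.Ore.BMain
import Cfsg.Agent.H755.S8.StructV
import Cfsg.Agent.H940.EngLoc
import Cfsg.Agent.H940.EngData
import Cfsg.Agent.H670.S8.FrobEng
import Cfsg.Agent.H58.S8.Iso

/-!
# S4908, row FROB of the Baby Monster (helper844)

The Frobenius subgroup `47 : 23`. The orders of the proper subgroups of order divisible by 47 or 23 are found by the order
engine; `k(T) ≤ 443520000 s + |T| / m ^ 2`.
-/

set_option autoImplicit false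
set_option maxRecDepth 100000
set_option linter.unusedSectionVars false

universe u v

namespace Cfsg.Agent.H844.S8.BFrob

open Subgroup Cfsg Cfsg.Agent Cfsg.Agent.OrdDiv Cfsg.Agent.H940 Cfsg.Agent.H940.Eng Cfsg.Agent.H940.Eng.D
open Cfsg.Agent.H704.S8 Cfsg.Agent.H755.S8

abbrev G : Type := Cfsg.Spor.BabyMonster

theorem isoG : Spor.IsoB G := ⟨MulEquiv.refl _⟩

theorem cardG : Nat.card G = n_b := NotCT.Orders.b isoG

instance finG : Finite G := Nat.finite_of_card_ne_zero (by rw [cardG]; decide)

instance simG : IsSimpleGroup G := H844.Ore.BPrimes.isSimple isoG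

theorem base : Eng.Base := ⟨OrdDiv.table, fun _ _ _ _ => S0000.result⟩

theorem not_comm : ¬ ∀ a b : G, a * b = b * a := by
  intro hc'
  let _ : CommGroup G := { (inferInstance : Group G) with mul_comm := hc' }
  have h3 : (Nat.card G).Prime := IsSimpleGroup.prime_card
  rw [cardG] at h3
  have := (Nat.prime_dvd_prime_iff_eq Nat.prime_two h3).1 (by decide)
  exact absurd this (by decide)

theorem cent_zp (y : G) : centralizer ((zpowers y : Subgroup G) : Set G) = centralizer ({y} : Set G) := by
  rw [zpowers_eq_closure, centralizer_closure]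

/-- local data at `r` -/
theorem loc_of {r : ℕ} (hr : isPrimeB r = true) (hd : r ∣ n_b) (h2 : (n_b % (r ^ 2) != 0) = true) {fC : List (ℕ × ℕ)}
    (hfC : (fC.all fun x => isPrimeB x.1) = true)
    (hC : ∀ y : G, orderOf y = r → Nat.card (centralizer ({y} : Set G)) ∣ prodl fC) {C : ℕ} {fN : List (ℕ × ℕ)}
    (hfN : (fN.all fun x => isPrimeB x.1) = true)
    (hc : cnP n_b r fC (fun c m => C % c == 0 && (prodl fN) % m == 0) = true) : Loc G ⟨r, C, fN⟩ := by
  have : Fact r.Prime := ⟨prime_of hr⟩
  obtain ⟨y, hy⟩ := exists_prime_orderOf_dvd_card' (G := G) r (by rw [cardG]; exact hd)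
  exact loc_of_cent not_comm cardG hr h2 hfC (R0 := zpowers y) (by rw [Nat.card_zpowers, hy])
    (by rw [cent_zp]; exact hC y hy) hfN hc

def ld47 : LD := ⟨47, 47, [(23, 1), (47, 1)]⟩
def ld23 : LD := ⟨23, 46, [(2, 1), (11, 1), (23, 1)]⟩
def ld17 : LD := ⟨17, 1428, [(2, 6), (3, 1), (7, 1), (17, 1)]⟩
def ld13 : LD := ⟨13, 312, [(2, 5), (3, 2), (13, 1)]⟩

theorem h3 : Cfsg.Agent.H715.Mon.Grp.SThree.{0} := H844.Ore.BMain.sThree

theorem loc47 : Loc G ld47 :=
  loc_of (by decide +kernel) (by decide +kernel) (by decide +kernel) (fC := [(47, 1)]) (by decide +kernel)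
    (fun y hy => by rw [H954.DR.CentB.cent47 isoG hy]; decide) (by decide +kernel) (by decide +kernel)

theorem loc23 : Loc G ld23 :=
  loc_of (by decide +kernel) (by decide +kernel) (by decide +kernel) (fC := [(2, 1), (23, 1)]) (by decide +kernel)
    (fun y hy => by rw [H715.Mon.Exact.B.cent23 h3 isoG hy]; decide) (by decide +kernel) (by decide +kernel)

theorem loc17 : Loc G ld17 :=
  loc_of (by decide +kernel) (by decide +kernel) (by decide +kernel) (fC := [(2, 2), (3, 1), (7, 1), (17, 1)])
    (by decide +kernel) (fun y hy => (H844.Ore.BPrimes.seventeen_dvd h3 isoG hy).trans (by decide)) (by decide +kernel)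
    (by decide +kernel)

theorem loc13 : Loc G ld13 :=
  loc_of (by decide +kernel) (by decide +kernel) (by decide +kernel) (fC := [(2, 3), (3, 1), (13, 1)])
    (by decide +kernel) (fun y hy => by rw [(H139.LD.struct13 isoG hy).1]; decide) (by decide +kernel)
    (by decide +kernel)

def loc : List LD := [ld47, ld23, ld17, ld13]

theorem ctx : Ctx G l_b n_b o_b loc where
  fin := finG
  simple := simG
  card := cardG
  val := v_b
  nodup := nd_b
  ords := ords_b base
  loc := by
    intro ld hld
    simp only [loc, List.mem_cons, List.not_mem_nil, or_false] at hld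
    rcases hld with rfl | rfl | rfl | rfl
    · exact loc47
    · exact loc23
    · exact loc17
    · exact loc13

/-! ### The class number -/

theorem cent_sub (T : Subgroup G) (z : T) (hz : (orderOf z).Prime) (h5 : 5 ≤ orderOf z) :
    Nat.card (centralizer ({z} : Set T)) ≤ 443520000 := by
  have h1 := H844.TC.BPrimeLe.prime_le h3 isoG (y := (z : G)) (by rw [Subgroup.orderOf_coe]; exact hz)
    (by rw [Subgroup.orderOf_coe]; exact h5)
  refine le_trans ?_ h1
  refine Nat.card_le_card_of_injective (fun x : centralizer ({z} : Set T) =>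
    (⟨((x : T) : G), ?_⟩ : centralizer ({(z : G)} : Set G))) ?_
  · have h4 : (x : T) * z = z * x := mem_centralizer_singleton_iff.1 x.2
    rw [mem_centralizer_singleton_iff]
    exact congrArg Subtype.val h4
  · intro a b hab
    exact Subtype.ext (Subtype.ext (congrArg (fun w : centralizer ({(z : G)} : Set G) => (w : G)) hab))

def ps : List ℕ := [5, 7, 11, 13, 17, 19, 23, 31, 47]

/-- the test for one set of primes -/
def tstS (m : ℕ) (s : List ℕ) : Bool :=
  (s.all fun p => Nat.beq (m % p) 0) && Nat.ble (m * (s.length * 443520000 + m / (s.prod) ^ 2)) n_b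

/-- the order of `2 ^ 12 Co₁` -/
def m0 : ℕ := 17030253799601602560000

/-- the test for an order -/
def tst (m : ℕ) : Bool := Nat.ble (m * m) n_b || ps.sublists.any (fun s => tstS m s) || Nat.beq m m0

theorem ps_prime : ∀ p ∈ ps, p.Prime ∧ 5 ≤ p := by
  intro p hp
  simp only [ps, List.mem_cons, List.not_mem_nil, or_false] at hp
  rcases hp with rfl | rfl | rfl | rfl | rfl | rfl | rfl | rfl | rfl <;> exact ⟨by norm_num, by norm_num⟩

theorem exists_elt (T : Subgroup G) {p : ℕ} (hp : p.Prime) (h5 : 5 ≤ p) (hd : p ∣ Nat.card T) :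
    ∃ z : T, orderOf z = p ∧ Nat.card (centralizer ({z} : Set T)) ≤ 443520000 := by
  have : Fact p.Prime := ⟨hp⟩
  obtain ⟨z, hz⟩ := exists_prime_orderOf_dvd_card' (G := T) p hd
  exact ⟨z, hz, cent_sub T z (by rw [hz]; exact hp) (by rw [hz]; exact h5)⟩

theorem special (T : Subgroup G) (hT : Nat.card T = m0) :
    Nat.card T * Nat.card (ConjClasses T) ≤ n_b := by
  have : Fact (Nat.Prime 5) := ⟨by norm_num⟩
  obtain ⟨E, hE⟩ := Sylow.exists_subgroup_card_pow_prime (G := T) 5 (n := 2) (by rw [hT]; decide)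
  have key := H844.S8.KE.card_conj_le (T := T) E (c := 443520000) ?_ {7, 11, 13, 23} ?_ ?_ ?_
  · refine (Nat.mul_le_mul_left _ key).trans ?_
    rw [hE, hT]
    decide
  · intro z hz hz1
    -- a power of order five
    have h1 : orderOf z ∣ 5 ^ 2 := by
      rw [← hE, ← Subgroup.orderOf_mk z hz]
      exact orderOf_dvd_natCard _
    obtain ⟨k, hk, hk'⟩ := (Nat.dvd_prime_pow (by norm_num : Nat.Prime 5)).1 h1
    have hk0 : k ≠ 0 := by
      rintro rfl
      exact hz1 (orderOf_eq_one_iff.1 (by rw [hk', pow_zero]))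
    have h2 : orderOf (z ^ 5 ^ (k - 1)) = 5 := by
      rw [orderOf_pow' z (by positivity), hk', Nat.gcd_eq_right (pow_dvd_pow 5 (Nat.sub_le k 1)),
        Nat.pow_div (Nat.sub_le k 1) (by norm_num)]
      have : k - (k - 1) = 1 := by omega
      rw [this, pow_one]
    refine le_trans ?_ (cent_sub T (z ^ 5 ^ (k - 1)) (by rw [h2]; norm_num) (by rw [h2]))
    refine Subgroup.card_le_of_le ?_
    intro x hx
    rw [mem_centralizer_singleton_iff] at hx ⊢
    exact (show Commute x z from hx).pow_right _
  · intro p hp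
    simp only [Finset.mem_insert, Finset.mem_singleton] at hp
    rcases hp with rfl | rfl | rfl | rfl <;> norm_num
  · intro p hp
    rw [hE]
    simp only [Finset.mem_insert, Finset.mem_singleton] at hp
    rcases hp with rfl | rfl | rfl | rfl <;> norm_num
  · intro p hp
    simp only [Finset.mem_insert, Finset.mem_singleton] at hp
    rcases hp with rfl | rfl | rfl | rfl <;>
      exact exists_elt T (by norm_num) (by norm_num) (by rw [hT]; decide)

theorem le_of_tst (T : Subgroup G) (h : tst (Nat.card T) = true) :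
    1 * (Nat.card T * Nat.card (ConjClasses T)) ≤ Nat.card G := by
  rw [one_mul, cardG]
  unfold tst at h
  rw [Bool.or_eq_true, Bool.or_eq_true, Nat.ble_eq, List.any_eq_true] at h
  rcases h with (h | ⟨s, hs, h⟩) | h
  · exact (Nat.mul_le_mul_left _ card_conj_le_card).trans h
  · rw [List.mem_sublists] at hs
    unfold tstS at h
    rw [Bool.and_eq_true, List.all_eq_true, Nat.ble_eq] at h
    obtain ⟨h1, h2⟩ := h
    refine le_trans (Nat.mul_le_mul_left _ ?_) h2
    have hnd : s.Nodup := List.Nodup.sublist hs (by decide)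
    have key := H755.S8.card_conj_le (T := T) s.toFinset
      (fun p hp => (ps_prime p (hs.subset (List.mem_toFinset.1 hp))).1) (fun _ => 443520000) (fun p hp => ?_)
    · rw [Finset.sum_const, smul_eq_mul, List.toFinset_card_of_nodup hnd, List.prod_toFinset (fun p => p) hnd] at key
      simpa using key
    · have hps := ps_prime p (hs.subset (List.mem_toFinset.1 hp))
      exact exists_elt T hps.1 hps.2 (Nat.dvd_of_mod_eq_zero (Nat.eq_of_beq_eq_true (h1 p (List.mem_toFinset.1 hp))))
  · exact special T (Nat.eq_of_beq_eq_true h)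

/-! ### The Frobenius subgroup -/

/-- a Frobenius subgroup of order `p q` and orders -/
theorem frobRow_of_orders {X : Type u} [Group X] [Finite X] {c p q : ℕ} (hp : p.Prime) (hq : q.Prime)
    (hpn : p ∣ Nat.card X)
    (hN : ∀ R : Subgroup X, Nat.card R = p → q ∣ Nat.card (normalizer (R : Set X)) ∧
      ¬ q ∣ Nat.card (centralizer (R : Set X)))
    (hT : ∀ T : Subgroup X, T ≠ ⊤ → (p ∣ Nat.card T ∨ q ∣ Nat.card T) →
      c * (Nat.card T * Nat.card (ConjClasses T)) ≤ Nat.card X) (D : Set ℕ) : FrobRow c D X := by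
  have : Fact p.Prime := ⟨hp⟩
  have : Fact q.Prime := ⟨hq⟩
  obtain ⟨y, hy⟩ := exists_prime_orderOf_dvd_card' (G := X) p hpn
  have hP : Nat.card (zpowers y : Subgroup X) = p := by rw [Nat.card_zpowers, hy]
  obtain ⟨hNq, hCq⟩ := hN _ hP
  obtain ⟨w, hw⟩ := exists_prime_orderOf_dvd_card' (G := normalizer ((zpowers y : Subgroup X) : Set X)) q hNq
  have hw' : orderOf (w : X) = q := by rw [Subgroup.orderOf_coe, hw]
  have hQ : Nat.card (zpowers (w : X) : Subgroup X) = q := by rw [Nat.card_zpowers, hw']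
  refine ⟨zpowers y, zpowers (w : X), by rw [hP]; exact hp, ?_, ?_, ?_, ?_⟩
  · rw [zpowers_le]
    exact w.2
  · intro u hu g hg hgu
    by_contra hcon
    push Not at hcon
    obtain ⟨hu1, hg1⟩ := hcon
    apply hCq
    have h1 : zpowers u = zpowers y := by
      apply Subgroup.eq_of_le_of_card_ge (zpowers_le.2 hu)
      rw [hP, Nat.card_zpowers]
      refine Nat.le_of_dvd (orderOf_pos u) ?_
      rcases (Nat.dvd_prime hp).1 (hP ▸ (Nat.card_zpowers u ▸ Subgroup.card_dvd_of_le (zpowers_le.2 hu))) with h | h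
      · exact absurd (orderOf_eq_one_iff.1 h) hu1
      · rw [h]
    have h2 : g ∈ centralizer ((zpowers y : Subgroup X) : Set X) := by
      rw [← h1, mem_centralizer_iff]
      intro x hx
      obtain ⟨k, rfl⟩ := mem_zpowers_iff.1 hx
      exact ((show Commute g u from hgu).zpow_right k).symm
    have h3 : orderOf g = q := by
      rcases (Nat.dvd_prime hq).1 (hQ ▸ (Nat.card_zpowers g ▸ Subgroup.card_dvd_of_le (zpowers_le.2 hg))) with h | h
      · exact absurd (orderOf_eq_one_iff.1 h) hg1
      · exact h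
    rw [← h3, ← Subgroup.orderOf_mk g h2]
    exact orderOf_dvd_natCard _
  · intro h
    rw [h, Subgroup.card_bot] at hQ
    exact hq.one_lt.ne hQ
  · intro T hT' hPQ _
    refine hT T hT' ?_
    rcases hPQ with h | h
    · exact Or.inl (hP ▸ Subgroup.card_dvd_of_le h)
    · exact Or.inr (hQ ▸ Subgroup.card_dvd_of_le h)

theorem norm47 (R : Subgroup G) (hR : Nat.card R = 47) : 23 ∣ Nat.card (normalizer (R : Set G)) ∧
    ¬ 23 ∣ Nat.card (centralizer (R : Set G)) := by
  have : Fact (Nat.Prime 47) := ⟨by norm_num⟩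
  obtain ⟨y, hy⟩ := exists_prime_orderOf_dvd_card' (G := G) 47 (by rw [cardG]; decide)
  have h := cnP_sound (G := G) not_comm cardG (r := 47) (by decide +kernel) (by decide +kernel) (fC := [(47, 1)])
    (by decide +kernel) (R0 := zpowers y) (by rw [Nat.card_zpowers, hy])
    (by rw [cent_zp, H954.DR.CentB.cent47 isoG hy]; decide) (P := fun c m => m % 23 == 0 && c % 23 != 0)
    (by decide +kernel) hR
  rw [Bool.and_eq_true, bne_iff_ne, beq_iff_eq] at h
  exact ⟨Nat.dvd_of_mod_eq_zero h.1, fun h1 => h.2 (Nat.mod_eq_zero_of_dvd h1)⟩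

theorem chk47 : chkV l_b n_b 47 ld47 [] tst [] 0 loc o_b = true := by decide +kernel

theorem chk23 : chkV l_b n_b 23 ld23 [(3, 11)] tst [] 0 loc o_b = true := by decide +kernel

/-- **Row FROB of the Baby Monster**, given that no subgroup of order `3 ^ 11` is normalized by an element of order 23 -/
theorem frob_model (hV : ∀ Q R : Subgroup G, Nat.card R = 23 → Nat.card Q = 3 ^ 11 → R ≤ normalizer (Q : Set G) → False)
    (D : Set ℕ) : FrobRow 1 D G := by
  refine frobRow_of_orders (p := 47) (q := 23) (by norm_num) (by norm_num) (by rw [cardG]; decide) norm47 ?_ D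
  intro T hT hd
  refine le_of_tst T ?_
  rcases hd with h | h
  · exact ordersV ctx ld47 (by simp [loc]) [] (by simp) tst [] 0 chk47 h (by simp) hT
  · refine ordersV ctx ld23 (by simp [loc]) [(3, 11)] ?_ tst [] 0 chk23 h (by simp) hT
    intro x hx Q R hR hQ hRQ
    rw [List.mem_singleton] at hx
    subst hx
    exact hV Q R hR hQ hRQ

theorem row_of (hV : ∀ Q R : Subgroup G, Nat.card R = 23 → Nat.card Q = 3 ^ 11 → R ≤ normalizer (Q : Set G) → False)
    {X : Type v} [Group X] [Finite X] (hX : IsB X) (D : Set ℕ) : FrobRow 1 D X := by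
  obtain ⟨e⟩ : Nonempty (X ≃* G) := H58.S8.iso_b hX
  exact H670.S8.FrobRow.congr e.symm (frob_model hV D)

end Cfsg.Agent.H844.S8.BFrob
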