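import Cfsg.Agent.H755.S8.KL
import Cfsg.Agent.H707.Odd.Mod

/-!
# S4908: class numbers and subgroups (helper844)

`card_not_dvd_le` : at most `(|E| - 1) c` irreducible characters of `T` have degree not divisible by `|E|`, if `c` bounds the
orders of the centralizers of the elements of `E`.
-/

set_option autoImplicit false
set_option linter.unusedSectionVars false
set_option linter.style.haveILetI false

universe u

namespace Cfsg.Agent.H844.S8.KE

open Cfsg Cfsg.Agent.Characters.Core Cfsg.Agent.H686.CharKit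
open Cfsg.Agent.OddOrderCharacters.VChar Cfsg.Agent.OddOrderCharacters.PF13

variable {T : Type u} [Group T] [Finite T]

/-- the irreducible characters which do not vanish at `z` -/
theorem card_ne_zero_le (z : T) [Fintype (IrrCharacter T)] [DecidablePred fun χ : IrrCharacter T => (χ : T → ℂ) z ≠ 0] :
    (Finset.univ.filter fun χ : IrrCharacter T => (χ : T → ℂ) z ≠ 0).card ≤
      Nat.card (Subgroup.centralizer ({z} : Set T)) := by
  classical
  have := Fintype.ofFinite T
  let X : Finset T := Finset.univ.filter fun g => ∃ m : ℕ, m.Coprime (Nat.card T) ∧ g = z ^ m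
  have hXz : ∀ g ∈ X, ∃ m : ℕ, m.Coprime (Nat.card T) ∧ g = z ^ m := fun g hg => (Finset.mem_filter.1 hg).2
  have hX : ∀ g ∈ X, ∀ m : ℕ, m.Coprime (Nat.card T) → g ^ m ∈ X := by
    intro g hg m hm
    obtain ⟨k, hk, rfl⟩ := hXz g hg
    exact Finset.mem_filter.2 ⟨Finset.mem_univ _, k * m, hk.mul_left hm, (pow_mul z k m).symm⟩
  have hne : X.Nonempty := ⟨z, Finset.mem_filter.2 ⟨Finset.mem_univ _, 1, Nat.coprime_one_left _, (pow_one z).symm⟩⟩
  have h1 : ∀ χ ∈ (Finset.univ.filter fun χ : IrrCharacter T => (χ : T → ℂ) z ≠ 0),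
      (X.card : ℝ) ≤ ∑ g ∈ X, ‖(χ : T → ℂ) g‖ ^ 2 := by
    intro χ hχ
    have hχ' := (Finset.mem_filter.1 hχ).2
    have h := SumBound.card_le_sum_sq (G := T) ({χ} : Finset (IrrCharacter T))
      (fun χ => (χ : T → ℂ)) (fun i _ => gen_of_irr i.2) X hX ?_
    · simpa using h
    · intro g hg
      refine ⟨χ, Finset.mem_singleton_self χ, ?_⟩
      obtain ⟨m, hm, rfl⟩ := hXz g hg
      obtain ⟨σ, hσ⟩ := SumBound.gen_exists_ringEquiv (G := T) hm
      rw [← hσ _ (gen_of_irr χ.2) z]
      exact (map_ne_zero σ).2 hχ'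
  have h2 := Finset.sum_le_sum h1
  rw [Finset.sum_const, nsmul_eq_mul, Finset.sum_comm] at h2
  have h3 : ∀ g ∈ X, ∑ χ ∈ (Finset.univ.filter fun χ : IrrCharacter T => (χ : T → ℂ) z ≠ 0),
      ‖(χ : T → ℂ) g‖ ^ 2 ≤ (Nat.card (Subgroup.centralizer ({z} : Set T)) : ℝ) := by
    intro g hg
    obtain ⟨m, hm, rfl⟩ := hXz g hg
    have h4 := sum_normSq (G := T) (z ^ m)
    rw [H755.S8.cent_pow hm] at h4
    rw [← h4]
    refine (Finset.sum_le_sum_of_subset_of_nonneg (Finset.subset_univ _) fun _ _ _ => by positivity).trans_eq ?_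
    exact Finset.sum_congr rfl fun χ _ => (Complex.normSq_eq_norm_sq _).symm
  have h5 := h2.trans (Finset.sum_le_sum h3)
  rw [Finset.sum_const, nsmul_eq_mul, mul_comm] at h5
  have h6 : (0 : ℝ) < X.card := by exact_mod_cast hne.card_pos
  exact_mod_cast le_of_mul_le_mul_left h5 h6

/-- the irreducible characters of degree not divisible by `|E|` -/
theorem card_not_dvd_le (E : Subgroup T) {c : ℕ}
    (hc : ∀ z ∈ E, z ≠ 1 → Nat.card (Subgroup.centralizer ({z} : Set T)) ≤ c) [Fintype (IrrCharacter T)]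
    [DecidablePred fun χ : IrrCharacter T => ¬ Nat.card E ∣ charDegree (χ : T → ℂ)] :
    (Finset.univ.filter fun χ : IrrCharacter T => ¬ Nat.card E ∣ charDegree (χ : T → ℂ)).card ≤ (Nat.card E - 1) * c := by
  classical
  have := Fintype.ofFinite T
  let Y : Finset T := (Finset.univ.filter fun z => z ∈ E).erase 1
  have hY : Y.card = Nat.card E - 1 := by
    rw [Finset.card_erase_of_mem (Finset.mem_filter.2 ⟨Finset.mem_univ _, E.one_mem⟩)]
    rw [Nat.card_eq_fintype_card, Fintype.card_subtype]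
  have h1 : (Finset.univ.filter fun χ : IrrCharacter T => ¬ Nat.card E ∣ charDegree (χ : T → ℂ)) ⊆
      Y.biUnion fun z => Finset.univ.filter fun χ : IrrCharacter T => (χ : T → ℂ) z ≠ 0 := by
    intro χ hχ
    have hχ' := (Finset.mem_filter.1 hχ).2
    by_contra hcon
    refine hχ' (H707.Odd.card_dvd_of_vanish E (isIrr_isCharacter χ.2) (charDegree_cast (isIrr_isCharacter χ.2)).symm ?_)
    intro z hz hz1
    by_contra h0
    exact hcon (Finset.mem_biUnion.2 ⟨z, Finset.mem_erase.2 ⟨hz1, Finset.mem_filter.2 ⟨Finset.mem_univ _, hz⟩⟩,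
      Finset.mem_filter.2 ⟨Finset.mem_univ _, h0⟩⟩)
  refine (Finset.card_le_card h1).trans (Finset.card_biUnion_le.trans ?_)
  rw [← hY, ← smul_eq_mul, ← Finset.sum_const]
  refine Finset.sum_le_sum fun z hz => (card_ne_zero_le z).trans (hc z ?_ ?_)
  · exact (Finset.mem_filter.1 (Finset.mem_of_mem_erase hz)).2
  · exact Finset.ne_of_mem_erase hz

/-- **the class number**, a subgroup `E` and primes not dividing its order -/
theorem card_conj_le (E : Subgroup T) {c : ℕ}
    (hc0 : ∀ z ∈ E, z ≠ 1 → Nat.card (Subgroup.centralizer ({z} : Set T)) ≤ c) (s : Finset ℕ) (hs : ∀ p ∈ s, p.Prime)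
    (hcop : ∀ p ∈ s, p.Coprime (Nat.card E))
    (hc : ∀ p ∈ s, ∃ z : T, orderOf z = p ∧ Nat.card (Subgroup.centralizer ({z} : Set T)) ≤ c) :
    Nat.card (ConjClasses T) ≤ (s.card + (Nat.card E - 1)) * c + Nat.card T / (Nat.card E * ∏ p ∈ s, p) ^ 2 := by
  classical
  have := finite_irr (G := T)
  have := Fintype.ofFinite (IrrCharacter T)
  rw [← card_irr, Nat.card_eq_fintype_card]
  set A := (s.biUnion fun p => Finset.univ.filter fun χ : IrrCharacter T => ¬ p ∣ charDegree (χ : T → ℂ)) ∪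
    Finset.univ.filter fun χ : IrrCharacter T => ¬ Nat.card E ∣ charDegree (χ : T → ℂ) with hA
  have h1 : A.card ≤ (s.card + (Nat.card E - 1)) * c := by
    refine (Finset.card_union_le _ _).trans ?_
    rw [add_mul]
    refine Nat.add_le_add ?_ (card_not_dvd_le E hc0)
    refine Finset.card_biUnion_le.trans ?_
    rw [← smul_eq_mul, ← Finset.sum_const]
    refine Finset.sum_le_sum fun p hp => ?_
    obtain ⟨z, hz, hz'⟩ := hc p hp
    exact (H755.S8.card_prime_to_le (hs p hp) hz).trans hz'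
  have hpos : 0 < (Nat.card E * ∏ p ∈ s, p) ^ 2 :=
    pow_pos (Nat.mul_pos Nat.card_pos (Finset.prod_pos fun p hp => (hs p hp).pos)) 2
  have h2 : Aᶜ.card ≤ Nat.card T / (Nat.card E * ∏ p ∈ s, p) ^ 2 := by
    rw [Nat.le_div_iff_mul_le hpos, ← sum_deg_sq (G := T), ← smul_eq_mul, ← Finset.sum_const]
    refine (Finset.sum_le_sum fun χ hχ => ?_).trans (Finset.sum_le_sum_of_subset (Finset.subset_univ Aᶜ))
    have hχ' := Finset.mem_compl.1 hχ
    refine Nat.pow_le_pow_left (Nat.le_of_dvd (charDegree_pos χ) ?_) 2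
    refine Nat.Coprime.mul_dvd_of_dvd_of_dvd ?_ ?_ ?_
    · exact Nat.Coprime.prod_right fun p hp => (hcop p hp).symm
    · by_contra hcon
      exact hχ' (Finset.mem_union_right _ (Finset.mem_filter.2 ⟨Finset.mem_univ _, hcon⟩))
    · refine Finset.prod_primes_dvd _ (fun p hp => (hs p hp).prime) fun p hp => ?_
      by_contra hcon
      exact hχ' (Finset.mem_union_left _ (Finset.mem_biUnion.2 ⟨p, hp, Finset.mem_filter.2 ⟨Finset.mem_univ _, hcon⟩⟩))
  rw [← Finset.card_add_card_compl A]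
  exact Nat.add_le_add h1 h2

end Cfsg.Agent.H844.S8.KE
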